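import Cfsg.Agent.EqLemmas

/-!
# Helpers on closures of affine groups

* `exists_linearEquiv_of_ker_eq`: two tuples with the same relations differ by an automorphism.
* `smul_of_affineComb`, `add_of_affineComb`: a map preserving affine combinations is affine.
* `exists_linearEquiv_det`: an automorphism of prescribed determinant fixing a proper subspace.
-/

namespace Cfsg.Agent.Closures

set_option autoImplicit false

variable {F : Type*} [Field F] {V : Type*} [AddCommGroup V] [Module F V]

theorem exists_linearEquiv_of_ker_eq [FiniteDimensional F V] {W : Type*} [AddCommGroup W]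
    [Module F W] (f g : W →ₗ[F] V) (h : LinearMap.ker f = LinearMap.ker g) :
    ∃ A : V ≃ₗ[F] V, ∀ w, A (f w) = g w := by
  let e : LinearMap.range f ≃ₗ[F] LinearMap.range g :=
    (f.quotKerEquivRange.symm.trans (Submodule.quotEquivOfEq _ _ h)).trans g.quotKerEquivRange
  obtain ⟨C, hC⟩ := (LinearMap.range f).exists_isCompl
  obtain ⟨C', hC'⟩ := (LinearMap.range g).exists_isCompl
  have hdim : Module.finrank F C = Module.finrank F C' := by
    have h1 := Submodule.finrank_add_eq_of_isCompl hC
    have h2 := Submodule.finrank_add_eq_of_isCompl hC'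
    have h3 := e.finrank_eq
    omega
  let e' : C ≃ₗ[F] C' := LinearEquiv.ofFinrankEq _ _ hdim
  refine ⟨((Submodule.prodEquivOfIsCompl _ _ hC).symm.trans (e.prodCongr e')).trans
    (Submodule.prodEquivOfIsCompl _ _ hC'), fun w => ?_⟩
  have h1 : (Submodule.prodEquivOfIsCompl _ _ hC).symm (f w)
      = (⟨f w, LinearMap.mem_range_self f w⟩, 0) :=
    Submodule.prodEquivOfIsCompl_symm_apply_left _ _ hC ⟨f w, LinearMap.mem_range_self f w⟩
  simp only [LinearEquiv.trans_apply, h1, LinearEquiv.prodCongr_apply, map_zero,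
    Submodule.coe_prodEquivOfIsCompl', Submodule.coe_zero, add_zero]
  have h2 : f.quotKerEquivRange.symm ⟨f w, LinearMap.mem_range_self f w⟩
      = (Submodule.Quotient.mk w : W ⧸ LinearMap.ker f) :=
    f.quotKerEquivRange_symm_apply_image w _
  simp only [e, LinearEquiv.trans_apply, h2, Submodule.quotEquivOfEq_mk]
  exact g.quotKerEquivRange_apply_mk w

theorem smul_of_affineComb (τ : V → V) (h0 : τ 0 = 0)
    (h : ∀ (l : F) (a b : V), τ ((1 - l) • a + l • b) = (1 - l) • τ a + l • τ b) (l : F) (v : V) :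
    τ (l • v) = l • τ v := by
  simpa [h0] using h l 0 v

theorem add_of_affineComb (h2 : (2 : F) ≠ 0) (τ : V → V) (h0 : τ 0 = 0)
    (h : ∀ (l : F) (a b : V), τ ((1 - l) • a + l • b) = (1 - l) • τ a + l • τ b) (u v : V) :
    τ (u + v) = τ u + τ v := by
  have h1 : ((1 : F) - 1 / 2) * 2 = 1 := by field_simp; ring
  have h3 : ((1 : F) / 2) * 2 = 1 := by field_simp
  have := h (1 / 2) ((2 : F) • u) ((2 : F) • v)
  simpa only [smul_of_affineComb τ h0 h, smul_smul, h1, h3, one_smul] using this

theorem exists_linearEquiv_det [FiniteDimensional F V] (W : Submodule F V) (hW : W ≠ ⊤)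
    (c : F) (hc : c ≠ 0) :
    ∃ S : V ≃ₗ[F] V, LinearMap.det (S : V →ₗ[F] V) = c ∧ ∀ w ∈ W, S w = w := by
  obtain ⟨v, hv⟩ : ∃ v, v ∉ W := by
    by_contra h
    exact hW (Submodule.eq_top_iff'.2 fun x => not_not.1 fun hx => h ⟨x, hx⟩)
  obtain ⟨φ, hφv, hφW⟩ := Submodule.exists_dual_map_eq_bot_of_notMem hv inferInstance
  have hφ : ∀ w ∈ W, φ w = 0 := fun w hw =>
    (Submodule.mem_bot F).1 (hφW ▸ Submodule.mem_map_of_mem hw)
  set T := LinearMap.transvection (((c - 1) / φ v) • φ) v with hT
  have hdet : T.det = c := by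
    rw [hT, LinearMap.transvection.det, LinearMap.smul_apply, smul_eq_mul, div_mul_cancel₀ _ hφv,
      add_sub_cancel]
  have hu : IsUnit T.det := hdet ▸ isUnit_iff_ne_zero.2 hc
  have hco : ∀ x, LinearMap.equivOfIsUnitDet hu x = T x := fun x =>
    LinearMap.equivOfIsUnitDet_apply hu x
  refine ⟨LinearMap.equivOfIsUnitDet hu, ?_, fun w hw => ?_⟩
  · rw [show (LinearMap.equivOfIsUnitDet hu : V →ₗ[F] V) = T from LinearMap.ext hco]
    exact hdet
  · rw [hco]
    simp [hT, LinearMap.transvection.apply, hφ w hw]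

end Cfsg.Agent.Closures
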